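import Mathlib

/-! Traces on Artinian local algebras with principal maximal ideal. -/

set_option autoImplicit false

universe u v

namespace Groth.Agent.TameDiffLib

theorem trace_of_shortExact {k : Type u} [Field k] {V W Q : Type v} [AddCommGroup V] [Module k V] [AddCommGroup W]
    [Module k W] [AddCommGroup Q] [Module k Q] [FiniteDimensional k V] [FiniteDimensional k W] [FiniteDimensional k Q]
    (i : W →ₗ[k] V) (p : V →ₗ[k] Q) (hi : Function.Injective i) (hp : Function.Surjective p) (h : Function.Exact i p)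
    (f : V →ₗ[k] V) (a : W →ₗ[k] W) (d : Q →ₗ[k] Q) (ha : f.comp i = i.comp a) (hd : p.comp f = d.comp p) :
    LinearMap.trace k V f = LinearMap.trace k W a + LinearMap.trace k Q d := by
  obtain ⟨s, hs⟩ := p.exists_rightInverse_of_surjective (LinearMap.range_eq_top.mpr hp)
  have hs' : ∀ q, p (s q) = q := fun q => LinearMap.congr_fun hs q
  obtain ⟨r, hr⟩ := i.exists_leftInverse_of_injective (LinearMap.ker_eq_bot.mpr hi)
  let r' : V →ₗ[k] W := r - (r.comp s).comp p
  have hsplit : ∀ v, i (r' v) + s (p v) = v := fun v => by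
    obtain ⟨w, hw⟩ := (h (v - s (p v))).mp (by rw [map_sub, hs', sub_self])
    have hrw : r' v = w := by
      show r v - r (s (p v)) = w
      rw [← map_sub, ← hw]
      exact LinearMap.congr_fun hr w
    rw [hrw, hw, sub_add_cancel]
  have hid : (i.comp r') + (s.comp p) = LinearMap.id := LinearMap.ext hsplit
  have e1 : f = f.comp (i.comp r') + f.comp (s.comp p) := by rw [← LinearMap.comp_add, hid, LinearMap.comp_id]
  have h1 : LinearMap.trace k V (f.comp (i.comp r')) = LinearMap.trace k W a := by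
    rw [← LinearMap.comp_assoc, ha, LinearMap.comp_assoc, LinearMap.trace_comp_comm', LinearMap.comp_assoc]
    congr 1
    refine LinearMap.ext fun w => ?_
    show a (r (i w) - r (s (p (i w)))) = a w
    rw [h.apply_apply_eq_zero, map_zero, map_zero, sub_zero, show r (i w) = w from LinearMap.congr_fun hr w]
  have h2 : LinearMap.trace k V (f.comp (s.comp p)) = LinearMap.trace k Q d := by
    rw [← LinearMap.comp_assoc, LinearMap.trace_comp_comm', ← LinearMap.comp_assoc, hd, LinearMap.comp_assoc, hs,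
      LinearMap.comp_id]
  conv_lhs => rw [e1]
  rw [map_add, h1, h2]

variable {k : Type u} [Field k] {R : Type v} [CommRing R] [IsLocalRing R] [Algebra k R] [FiniteDimensional k R]

open IsLocalRing in
/-- The trace on an Artinian local algebra with principal maximal ideal. -/
theorem trace_eq_nsmul (ϖ : R) (hϖ : maximalIdeal R = Ideal.span {ϖ}) (e : ℕ) (he : ϖ ^ e = 0)
    (hne : ∀ j, j < e → ϖ ^ j ≠ 0) (x : R) :
    Algebra.trace k R x = e • Algebra.trace k (R ⧸ Ideal.span {ϖ}) (Ideal.Quotient.mk _ x) := by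
  classical
  let T : ℕ → k := fun j => Algebra.trace k (R ⧸ Ideal.span {ϖ ^ j}) (Ideal.Quotient.mk _ x)
  have step : ∀ j, j < e → T (j + 1) = Algebra.trace k (R ⧸ Ideal.span {ϖ}) (Ideal.Quotient.mk _ x) + T j := by
    intro j hj
    let I := Ideal.span {ϖ ^ (j + 1)}
    let g : R →ₗ[R] R ⧸ I := LinearMap.toSpanSingleton R (R ⧸ I) (Ideal.Quotient.mk I (ϖ ^ j))
    have hg : ∀ r, g r = Ideal.Quotient.mk I (r * ϖ ^ j) := fun r => rfl
    have hker : Ideal.span {ϖ} ≤ LinearMap.ker g := fun r hr => by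
      obtain ⟨t, rfl⟩ := Ideal.mem_span_singleton'.mp hr
      rw [LinearMap.mem_ker, hg, Ideal.Quotient.eq_zero_iff_mem]
      exact Ideal.mem_span_singleton'.mpr ⟨t, by ring⟩
    let i : (R ⧸ Ideal.span {ϖ}) →ₗ[R] R ⧸ I := Submodule.liftQ _ g hker
    have hle : I ≤ Ideal.span {ϖ ^ j} := Ideal.span_singleton_le_span_singleton.mpr (pow_dvd_pow _ (Nat.le_succ j))
    let p : (R ⧸ I) →ₗ[R] R ⧸ Ideal.span {ϖ ^ j} := Submodule.factor hle
    have hi : Function.Injective i := (injective_iff_map_eq_zero i).mpr fun z hz => by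
      obtain ⟨r, rfl⟩ := Ideal.Quotient.mk_surjective z
      have hz' : r * ϖ ^ j ∈ I := Ideal.Quotient.eq_zero_iff_mem.mp ((hg r).symm.trans hz)
      obtain ⟨t, ht⟩ := Ideal.mem_span_singleton'.mp hz'
      rw [Ideal.Quotient.eq_zero_iff_mem]
      have h0 : (r - t * ϖ) * ϖ ^ j = 0 := by rw [sub_mul, ← ht]; ring
      have hmem : r - t * ϖ ∈ Ideal.span {ϖ} := hϖ ▸ (mem_maximalIdeal _).mpr (fun hu => hne j hj (hu.mul_right_eq_zero.mp h0))
      simpa using Ideal.add_mem _ hmem (Ideal.mem_span_singleton'.mpr ⟨t, rfl⟩)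
    have hex : Function.Exact i p := fun z => by
      obtain ⟨r, rfl⟩ := Ideal.Quotient.mk_surjective z
      constructor
      · intro hz
        obtain ⟨t, ht⟩ := Ideal.mem_span_singleton'.mp (Ideal.Quotient.eq_zero_iff_mem.mp hz)
        exact ⟨Ideal.Quotient.mk _ t, (hg t).trans (congrArg _ ht)⟩
      · rintro ⟨w, hw⟩
        obtain ⟨t, rfl⟩ := Ideal.Quotient.mk_surjective w
        rw [← hw, show i (Ideal.Quotient.mk _ t) = Ideal.Quotient.mk I (t * ϖ ^ j) from hg t]
        exact Ideal.Quotient.eq_zero_iff_mem.mpr (Ideal.mem_span_singleton'.mpr ⟨t, rfl⟩)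
    refine trace_of_shortExact (i.restrictScalars k) (p.restrictScalars k) hi (Submodule.factor_surjective hle) hex
      (Algebra.lmul k _ (Ideal.Quotient.mk I x)) (Algebra.lmul k _ (Ideal.Quotient.mk _ x))
      (Algebra.lmul k _ (Ideal.Quotient.mk _ x)) ?_ ?_
    · exact LinearMap.ext fun z => (map_smul i x z).symm
    · exact LinearMap.ext fun z => map_smul p x z
  have hind : ∀ j, j ≤ e → T j = j • Algebra.trace k (R ⧸ Ideal.span {ϖ}) (Ideal.Quotient.mk _ x) := by
    intro j
    induction j with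
    | zero =>
      intro _
      haveI : Subsingleton (R ⧸ Ideal.span {ϖ ^ 0}) := Ideal.Quotient.subsingleton_iff.mpr (by simp)
      rw [zero_smul]
      show Algebra.trace k _ _ = 0
      rw [Subsingleton.elim (Ideal.Quotient.mk (Ideal.span {ϖ ^ 0}) x) 0, map_zero]
    | succ j ih => intro hj; rw [step j (by omega), ih (by omega), succ_nsmul, add_comm]
  rw [← hind e le_rfl]
  let eq0 : R ≃ₐ[k] R ⧸ Ideal.span {ϖ ^ e} :=
    ((Ideal.quotientEquivAlgOfEq k (show Ideal.span {ϖ ^ e} = ⊥ by simp [he])).trans (AlgEquiv.quotientBot k R)).symm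
  exact (Algebra.trace_eq_of_algEquiv eq0 x).symm

end Groth.Agent.TameDiffLib
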